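import Groth.Agent.Rigid.DimDrop
import Groth.Agent.PiSmooth.Main
import Groth.Agent.GeomProp.SmoothPoint
import Mathlib.AlgebraicGeometry.AffineSpace
import Mathlib.RingTheory.KrullDimension.Polynomial

/-!
# Dimension of a scheme of finite type over a field and maps to affine spaces
-/

set_option autoImplicit false
set_option backward.isDefEq.respectTransparency false

universe u

open CategoryTheory CategoryTheory.Limits AlgebraicGeometry TopologicalSpace MvPolynomial

noncomputable section

namespace Groth.Agent.DimAffMap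

variable {k : Type u} [Field k]

/-- Noether normalisation, composed with coordinate maps between affine spaces. -/
theorem exists_noether (A : Type u) [CommRing A] [Algebra k A] [Algebra.FiniteType k A] (n : ℕ) :
    ((n : WithBot ℕ∞) ≤ ringKrullDim A → ∃ φ : MvPolynomial (ULift.{u} (Fin n)) k →ₐ[k] A,
      Function.Surjective (PrimeSpectrum.comap φ.toRingHom)) ∧
    (ringKrullDim A ≤ n → ∃ φ : MvPolynomial (ULift.{u} (Fin n)) k →ₐ[k] A, φ.Finite ∧
      (ringKrullDim A = n → Function.Surjective (PrimeSpectrum.comap φ.toRingHom))) := by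
  rcases subsingleton_or_nontrivial A with hA | hA
  · have hbot : ringKrullDim A = ⊥ := ringKrullDim_eq_bot_of_subsingleton
    refine ⟨fun h => absurd (hbot ▸ h) (by simp), fun _ => ?_⟩
    refine ⟨MvPolynomial.aeval fun _ => 0, RingHom.Finite.of_surjective _ fun a => ⟨0, Subsingleton.elim _ _⟩,
      fun h => absurd (hbot.symm.trans h) (by simp)⟩
  obtain ⟨s, g, hgi, hgf⟩ := exists_finite_inj_algHom_of_fg k A
  have hdim : ringKrullDim A = s := Unibranch.ringKrullDim_eq_of_finite_inj g hgi hgf
  have hgs : Function.Surjective (PrimeSpectrum.comap g.toRingHom) := by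
    letI := g.toRingHom.toAlgebra
    haveI : Module.Finite (MvPolynomial (Fin s) k) A := hgf
    haveI : Algebra.IsIntegral (MvPolynomial (Fin s) k) A := Algebra.IsIntegral.of_finite _ _
    haveI : FaithfulSMul (MvPolynomial (Fin s) k) A := (faithfulSMul_iff_algebraMap_injective _ _).mpr hgi
    exact Algebra.IsIntegral.comap_surjective _ _
  refine ⟨fun h => ?_, fun h => ?_⟩
  · have hns : n ≤ s := by rw [hdim] at h; exact_mod_cast h
    have hf : Function.Injective (fun i : ULift.{u} (Fin n) => Fin.castLE hns i.down) :=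
      fun a b hab => ULift.ext _ _ (Fin.castLE_injective hns hab)
    refine ⟨g.comp (rename fun i => Fin.castLE hns i.down), ?_⟩
    have : Function.Surjective (PrimeSpectrum.comap
        (rename (R := k) fun i : ULift.{u} (Fin n) => Fin.castLE hns i.down).toRingHom) := fun P =>
      ⟨PrimeSpectrum.comap (killCompl (R := k) hf).toRingHom P, by
        rw [← PrimeSpectrum.comap_comp_apply,
          show (killCompl (R := k) hf).toRingHom.comp (rename _).toRingHom = RingHom.id _ from
            RingHom.ext fun p => killCompl_rename_app hf p]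
        exact PrimeSpectrum.ext (Ideal.comap_id _)⟩
    intro P
    obtain ⟨Q, rfl⟩ := this P
    obtain ⟨R, rfl⟩ := hgs Q
    exact ⟨R, rfl⟩
  · have hsn : s ≤ n := by rw [hdim] at h; exact_mod_cast h
    have hf : Function.Injective (fun i : Fin s => (⟨Fin.castLE hsn i⟩ : ULift.{u} (Fin n))) :=
      fun a b hab => Fin.castLE_injective hsn (congrArg ULift.down hab)
    refine ⟨g.comp (killCompl hf), hgf.comp (RingHom.Finite.of_surjective _ fun p => ⟨_, killCompl_rename_app hf p⟩),
      fun h' => ?_⟩
    obtain rfl : s = n := by rw [hdim] at h'; exact_mod_cast h'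
    have : Function.Surjective (PrimeSpectrum.comap (killCompl (R := k) hf).toRingHom) := by
      intro P
      refine ⟨PrimeSpectrum.comap (rename (R := k) fun i : Fin s => (⟨Fin.castLE hsn i⟩ : ULift.{u} (Fin s))).toRingHom P, ?_⟩
      rw [← PrimeSpectrum.comap_comp_apply,
        show (rename _).toRingHom.comp (killCompl (R := k) hf).toRingHom = RingHom.id _ from ?_]
      · exact PrimeSpectrum.ext (Ideal.comap_id _)
      · refine MvPolynomial.ringHom_ext (fun r => ?_) fun i => ?_
        · simp [killCompl_C]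
        · have h1 : killCompl (R := k) hf (X i) = X i.down := by
            conv_lhs => rw [show (X i : MvPolynomial (ULift.{u} (Fin s)) k) =
              rename (fun j : Fin s => (⟨Fin.castLE hsn j⟩ : ULift.{u} (Fin s))) (X i.down) by
                rw [rename_X]; rfl]
            exact killCompl_rename_app hf _
          change rename _ (killCompl (R := k) hf (X i)) = X i
          rw [h1, rename_X]; rfl
    intro P
    obtain ⟨Q, rfl⟩ := this P
    obtain ⟨R, rfl⟩ := hgs Q
    exact ⟨R, rfl⟩

local instance specOrd (X : Scheme.{u}) : PartialOrder X := specializationOrder X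

theorem topologicalKrullDim_eq_krullDim (X : Scheme.{u}) :
    topologicalKrullDim (X : Type u) = Order.krullDim (X : Type u) :=
  Order.krullDim_eq_of_orderIso (irreducibleSetEquivPoints (α := X))

variable {X Y : Scheme.{u}} (f : X ⟶ Spec (CommRingCat.of k)) (q : Y ⟶ Spec (CommRingCat.of k))
  [LocallyOfFiniteType f] [LocallyOfFiniteType q]

include f in
theorem pdim_le_dim (x : X) : ((WeilCoh.pdim X x : ℕ∞) : WithBot ℕ∞) ≤ topologicalKrullDim (X : Type u) := by
  rw [topologicalKrullDim_eq_krullDim, ← (WeilLib.exists_pdim_eq_trd f x).2]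
  exact Order.height_le_krullDim x

include f in
theorem dim_le_of_forall {b : WithBot ℕ∞} (h : ∀ x : X, ((WeilCoh.pdim X x : ℕ∞) : WithBot ℕ∞) ≤ b) :
    topologicalKrullDim (X : Type u) ≤ b := by
  rw [topologicalKrullDim_eq_krullDim, Order.krullDim_eq_iSup_height]
  exact iSup_le fun x => by rw [(WeilLib.exists_pdim_eq_trd f x).2]; exact h x

omit [LocallyOfFiniteType f] [LocallyOfFiniteType q] in
theorem trd_le (g : X ⟶ Y) (hg : g ≫ q = f) (x : X) : WeilLib.trd q (g x) ≤ WeilLib.trd f x := by
  letI := (WeilLib.kStr q (g x)).toAlgebra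
  letI := (WeilLib.kStr f x).toAlgebra
  letI := (g.residueFieldMap x).hom.toAlgebra
  haveI : IsScalarTower k (Y.residueField (g x)) (X.residueField x) :=
    IsScalarTower.of_algebraMap_eq fun a ↦ (RingHom.congr_fun (WeilLib.kStr_comp f g q hg x) a).symm
  have h := trdeg_add_eq k (Y.residueField (g x)) (A := X.residueField x)
  exact le_self_add.trans h.le

theorem pdim_image_le (g : X ⟶ Y) (hg : g ≫ q = f) (x : X) : WeilCoh.pdim Y (g x) ≤ WeilCoh.pdim X x := by
  have h := trd_le f q g hg x
  rw [(WeilLib.exists_pdim_eq_trd f x).1, (WeilLib.exists_pdim_eq_trd q (g x)).1] at h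
  exact_mod_cast h

theorem pdim_image_eq (g : X ⟶ Y) (hg : g ≫ q = f) (x : X) (hx : g.QuasiFiniteAt x) :
    WeilCoh.pdim Y (g x) = WeilCoh.pdim X x :=
  WeilLib.pdim_eq_of_residueDegree_ne_zero f g q hg (Rigid.residueDegree_ne_zero_of_quasiFiniteAt g hx)

include f q in
theorem dim_le_of_surjective (g : X ⟶ Y) (hg : g ≫ q = f) (hs : Function.Surjective g.base) :
    topologicalKrullDim (Y : Type u) ≤ topologicalKrullDim (X : Type u) := by
  refine dim_le_of_forall q fun y => ?_
  obtain ⟨x, rfl⟩ := hs y
  have h : (WeilCoh.pdim Y (g x) : ℕ∞) ≤ WeilCoh.pdim X x := ENat.coe_le_coe.mpr (pdim_image_le f q g hg x)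
  exact le_trans (WithBot.coe_le_coe.mpr h) (pdim_le_dim f x)

include f q in
theorem dim_le_of_finite (g : X ⟶ Y) (hg : g ≫ q = f) [IsFinite g] :
    topologicalKrullDim (X : Type u) ≤ topologicalKrullDim (Y : Type u) := by
  refine dim_le_of_forall f fun x => ?_
  rw [← pdim_image_eq f q g hg x (g.quasiFiniteAt x)]
  exact pdim_le_dim q (g x)

include f in
theorem dim_opens (U : X.Opens) [QuasiCompact f] (hU : Dense (U : Set X)) :
    topologicalKrullDim (U : Scheme.{u}) = topologicalKrullDim (X : Type u) := by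
  haveI : IsLocallyNoetherian X := LocallyOfFiniteType.isLocallyNoetherian f
  have h1 : topologicalKrullDim (U : Scheme.{u}) ≤ topologicalKrullDim (X : Type u) := by
    refine dim_le_of_forall (U.ι ≫ f) fun x => ?_
    rw [← pdim_image_eq (U.ι ≫ f) f U.ι rfl x (U.ι.quasiFiniteAt x)]
    exact pdim_le_dim f _
  have h2 : topologicalKrullDim (X : Type u) ≤ topologicalKrullDim (U : Scheme.{u}) := by
    refine dim_le_of_forall f fun x => ?_
    obtain ⟨Z, hZ, hxZ⟩ : ∃ Z ∈ irreducibleComponents (X : Type u), x ∈ Z :=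
      ⟨_, irreducibleComponent_mem_irreducibleComponents x, mem_irreducibleComponent⟩
    obtain ⟨η, hη⟩ := QuasiSober.sober hZ.1 (isClosed_of_mem_irreducibleComponents Z hZ)
    have hηg : η ∈ genericPoints (X : Type u) := by
      show closure {η} ∈ irreducibleComponents (X : Type u)
      rw [hη.def]; exact hZ
    have hηU := GeomProp.genericPoint_mem_of_dense X hηg U hU
    have hle : WeilCoh.pdim X x ≤ WeilCoh.pdim X η := WeilLib.pdim_le f (hη.specializes hxZ)
    have heq := pdim_image_eq (U.ι ≫ f) f U.ι rfl ⟨η, hηU⟩ (U.ι.quasiFiniteAt _)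
    refine le_trans ?_ (pdim_le_dim (U.ι ≫ f) ⟨η, hηU⟩)
    rw [← heq]
    exact WithBot.coe_le_coe.mpr (ENat.coe_le_coe.mpr hle)
  exact le_antisymm h1 h2

theorem dim_affineSpace (n : ℕ) :
    topologicalKrullDim (𝔸(ULift.{u} (Fin n); Spec (CommRingCat.of k)) : Type u) = n := by
  rw [(AffineSpace.SpecIso (ULift.{u} (Fin n)) (CommRingCat.of k)).hom.homeomorph.isHomeomorph.topologicalKrullDim_eq]
  refine (PrimeSpectrum.topologicalKrullDim_eq_ringKrullDim (MvPolynomial (ULift.{u} (Fin n)) k)).trans ?_
  rw [MvPolynomial.ringKrullDim_of_isNoetherianRing, ringKrullDim_eq_zero_of_field]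
  simp

include f in
/-- The morphism to affine space given by an algebra map on an affine open. -/
theorem exists_hom (U : X.Opens) (hU : IsAffineOpen U) (n : ℕ) :
    letI := (WeilLib.secStr f U).toAlgebra
    ∀ φ : MvPolynomial (ULift.{u} (Fin n)) k →ₐ[k] Γ(X, U),
    ∃ g : (U : Scheme.{u}) ⟶ 𝔸(ULift.{u} (Fin n); Spec (CommRingCat.of k)),
      g ≫ (𝔸(ULift.{u} (Fin n); Spec (CommRingCat.of k)) ↘ Spec (CommRingCat.of k)) = U.ι ≫ f ∧
      (φ.Finite → IsFinite g) ∧ (Function.Surjective (PrimeSpectrum.comap φ.toRingHom) → Function.Surjective g.base) := by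
  letI := (WeilLib.secStr f U).toAlgebra
  intro φ
  refine ⟨hU.isoSpec.hom ≫ Spec.map (CommRingCat.ofHom φ.toRingHom) ≫
    (AffineSpace.SpecIso (ULift.{u} (Fin n)) (CommRingCat.of k)).inv, ?_, fun hφ => ?_, fun hφ => ?_⟩
  · rw [Category.assoc, Category.assoc, AffineSpace.SpecIso_inv_over, ← Spec.map_comp,
      show CommRingCat.ofHom (MvPolynomial.C (σ := ULift.{u} (Fin n))) ≫ CommRingCat.ofHom φ.toRingHom =
        CommRingCat.ofHom (WeilLib.secStr f U) from CommRingCat.hom_ext (RingHom.ext fun a => φ.commutes a),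
      show CommRingCat.ofHom (WeilLib.secStr f U) =
        (Scheme.ΓSpecIso (CommRingCat.of k)).inv ≫ f.appLE ⊤ U le_top from CommRingCat.hom_ext rfl,
      Spec.map_comp, ← Scheme.isoSpec_Spec_inv, ← IsAffineOpen.fromSpec_top,
      IsAffineOpen.SpecMap_appLE_fromSpec f (isAffineOpen_top _) hU, ← hU.isoSpec_inv_ι, Category.assoc,
      Iso.hom_inv_id_assoc]
  · haveI : IsFinite (Spec.map (CommRingCat.ofHom φ.toRingHom)) := (IsFinite.SpecMap_iff (f := _)).mpr hφ
    infer_instance
  · have h1 := (AffineSpace.SpecIso (ULift.{u} (Fin n)) (CommRingCat.of k)).inv.homeomorph.surjective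
    have h2 := hU.isoSpec.hom.homeomorph.surjective
    intro y
    obtain ⟨a, rfl⟩ := h1 y
    obtain ⟨b, rfl⟩ := hφ a
    obtain ⟨c, rfl⟩ := h2 b
    exact ⟨c, rfl⟩

end Groth.Agent.DimAffMap
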